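import Mathlib

/-!
# The cotangent space at a rational point
-/

set_option autoImplicit false
set_option linter.style.haveILetI false

namespace Groth.Agent.JacPoint

open MvPolynomial

universe u

variable {k : Type u} [Field k] {n : ℕ}

/-- The linear part of a polynomial at a point. -/
noncomputable def lin (a : Fin n → k) (f : MvPolynomial (Fin n) k) : Fin n → k :=
  fun j => eval a (pderiv j f)

theorem lin_add (a : Fin n → k) (f g : MvPolynomial (Fin n) k) : lin a (f + g) = lin a f + lin a g := by
  ext j; simp [lin]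

theorem lin_mul (a : Fin n → k) (f g : MvPolynomial (Fin n) k) :
    lin a (f * g) = eval a f • lin a g + eval a g • lin a f := by
  ext j; simp [lin]

theorem taylor_mem (a : Fin n → k) (f : MvPolynomial (Fin n) k) :
    f - C (eval a f) - ∑ j, C (lin a f j) * (X j - C (a j)) ∈ RingHom.ker (eval a) ^ 2 := by
  classical
  induction f using MvPolynomial.induction_on with
  | C r => simp [lin]
  | add p q hp hq =>
    convert Ideal.add_mem _ hp hq using 1
    simp only [map_add, lin_add, Pi.add_apply, add_mul, Finset.sum_add_distrib]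
    ring
  | mul_X p i hp =>
    have hX : ∀ j, X j - C (a j) ∈ RingHom.ker (eval a) := fun j => by simp
    have hp1 : p - C (eval a p) ∈ RingHom.ker (eval a) := by simp
    have h2 : (p - C (eval a p)) * (X i - C (a i)) ∈ RingHom.ker (eval a) ^ 2 := by
      rw [pow_two]; exact Ideal.mul_mem_mul hp1 (hX i)
    have hlin : lin a (X i) = Pi.single i 1 := by
      ext j; by_cases h : j = i
      · subst h; simp [lin]
      · simp [lin, h, pderiv_X_of_ne (Ne.symm h)]
    have hs : ∑ j, C (lin a (p * X i) j) * (X j - C (a j)) =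
        C (eval a p) * (X i - C (a i)) + C (a i) * ∑ j, C (lin a p j) * (X j - C (a j)) := by
      rw [lin_mul, hlin, eval_X]
      simp only [Pi.add_apply, Pi.smul_apply, smul_eq_mul, map_add, map_mul, add_mul, Finset.sum_add_distrib]
      congr 1
      · rw [Finset.sum_eq_single i]
        · simp
        · intro j _ hj; simp [hj]
        · simp
      · rw [Finset.mul_sum]; exact Finset.sum_congr rfl fun j _ => by ring
    have : p * X i - C (eval a (p * X i)) - ∑ j, C (lin a (p * X i) j) * (X j - C (a j)) =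
        (p - C (eval a p)) * (X i - C (a i)) +
          C (a i) * (p - C (eval a p) - ∑ j, C (lin a p j) * (X j - C (a j))) := by
      rw [hs, map_mul, eval_X, map_mul]; ring
    rw [this]
    exact Ideal.add_mem _ h2 (Ideal.mul_mem_left _ _ hp)

open IsLocalRing in
/-- A first-order expansion computes the cotangent space. -/
theorem finrank_cotangentSpace_of_firstOrder {L : Type u} [CommRing L] [IsLocalRing L] {V : Type u}
    [AddCommGroup V] [Module k V] [Module kᵐᵒᵖ V] [IsCentralScalar k V] (ψ : L →+* TrivSqZeroExt k V)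
    (hm : ∀ x : L, x ∈ maximalIdeal L ↔ (ψ x).fst = 0)
    (hker : ∀ x : maximalIdeal L, (ψ x).snd = 0 ↔ (x : L) ∈ maximalIdeal L ^ 2)
    (hsurj : ∀ v : V, ∃ x ∈ maximalIdeal L, (ψ x).snd = v) (hres : ∀ c : k, ∃ x : L, (ψ x).fst = c) :
    Module.finrank (ResidueField L) (CotangentSpace L) = Module.finrank k V := by
  let θ : maximalIdeal L →+ V :=
    { toFun := fun x => (ψ x).snd, map_zero' := by simp, map_add' := fun x y => by simp }
  have hθsmul : ∀ (c : L) (x : maximalIdeal L), θ (c • x) = (ψ c).fst • θ x := fun c x => by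
    show (ψ (c * (x : L))).snd = _
    rw [map_mul, TrivSqZeroExt.snd_mul, (hm x).1 x.2]
    simp only [MulOpposite.op_zero, zero_smul, add_zero]
    rfl
  have hc : ∀ x : maximalIdeal L, (maximalIdeal L).toCotangent x = 0 ↔ θ x = 0 := fun x => by
    rw [Ideal.toCotangent_eq_zero, ← hker]; rfl
  choose sec hsec using (maximalIdeal L).toCotangent_surjective
  have hwd : ∀ x, θ (sec ((maximalIdeal L).toCotangent x)) = θ x := fun x => by
    rw [← sub_eq_zero, ← map_sub, ← hc, map_sub, hsec, sub_self]
  let j : CotangentSpace L →+ V :=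
    { toFun := fun z => θ (sec z)
      map_zero' := (hc _).1 (hsec 0)
      map_add' := fun z w => by
        rw [← map_add, ← hwd (sec z + sec w), map_add, hsec, hsec] }
  have hjb : Function.Bijective j := by
    constructor
    · intro z w h
      rw [← hsec z, ← hsec w, ← sub_eq_zero, ← map_sub, hc, map_sub, sub_eq_zero]
      exact h
    · intro v
      obtain ⟨x, hx, rfl⟩ := hsurj v
      exact ⟨_, hwd ⟨x, hx⟩⟩
  let i : ResidueField L →+* k := Ideal.Quotient.lift (maximalIdeal L)
    ((TrivSqZeroExt.fstHom k k V).toRingHom.comp ψ) (fun x hx => (hm x).1 hx)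
  have hi : Function.Bijective i := by
    refine ⟨i.injective, fun c => ?_⟩
    obtain ⟨x, rfl⟩ := hres c
    exact ⟨residue L x, rfl⟩
  have hlr := lift_rank_eq_of_equiv_equiv i (AddEquiv.ofBijective j hjb) hi fun c z => by
    obtain ⟨c, rfl⟩ := residue_surjective c
    obtain ⟨x, rfl⟩ := (maximalIdeal L).toCotangent_surjective z
    show θ (sec (residue L c • (maximalIdeal L).toCotangent x)) = (ψ c).fst • θ (sec _)
    rw [show residue L c • (maximalIdeal L).toCotangent x = c • (maximalIdeal L).toCotangent x from rfl,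
      ← map_smul, hwd, hwd, hθsmul]
  simpa [Module.finrank, Cardinal.toNat_lift] using congrArg Cardinal.toNat hlr

open IsLocalRing in
set_option maxHeartbeats 1000000 in
/-- The cotangent space at a rational point has dimension `n` minus the Jacobian rank. -/
theorem finrank_cotangentSpace_add_rank (r : ℕ) (F : Fin r → MvPolynomial (Fin n) k) (a : Fin n → k)
    (𝔪 : Ideal (MvPolynomial (Fin n) k ⧸ Ideal.span (Set.range F))) [𝔪.IsMaximal]
    (h𝔪 : 𝔪.comap (Ideal.Quotient.mk (Ideal.span (Set.range F))) = RingHom.ker (eval a)) :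
    Module.finrank (ResidueField (Localization.AtPrime 𝔪)) (CotangentSpace (Localization.AtPrime 𝔪)) +
      (Matrix.of fun i j => eval a (pderiv j (F i))).rank = n := by
  classical
  let I : Ideal (MvPolynomial (Fin n) k) := Ideal.span (Set.range F)
  set W : Submodule k (Fin n → k) := Submodule.span k (Set.range fun i => lin a (F i)) with hW
  have hrank : (Matrix.of fun i j => eval a (pderiv j (F i))).rank = Module.finrank k W :=
    Matrix.rank_eq_finrank_span_row _
  rw [hrank]
  refine Eq.trans ?_ ((Submodule.finrank_quotient_add_finrank W).trans (Module.finrank_fin_fun k))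
  congr 1
  let V := (Fin n → k) ⧸ W
  have hFa : ∀ f ∈ I, eval a f = 0 := fun f hf => by
    have : f ∈ 𝔪.comap (Ideal.Quotient.mk I) := by
      rw [Ideal.mem_comap, Ideal.Quotient.eq_zero_iff_mem.2 hf]; exact zero_mem _
    rwa [h𝔪] at this
  -- the first order expansion as a ring homomorphism
  let ψ₀ : MvPolynomial (Fin n) k →+* TrivSqZeroExt k V :=
    { toFun := fun f => TrivSqZeroExt.inl (eval a f) + TrivSqZeroExt.inr (Submodule.Quotient.mk (lin a f))
      map_one' := by
        have : lin a (1 : MvPolynomial (Fin n) k) = 0 := by ext j; simp [lin]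
        simp [this]
      map_zero' := by
        have : lin a (0 : MvPolynomial (Fin n) k) = 0 := by ext j; simp [lin]
        simp [this]
      map_add' := fun f g => by
        ext <;> simp [lin_add]
      map_mul' := fun f g => by
        refine TrivSqZeroExt.ext ?_ ?_
        · simp
        · simp [TrivSqZeroExt.snd_mul, lin_mul, add_comm] }
  have hψI : ∀ f ∈ I, ψ₀ f = 0 := by
    intro f hf
    refine Submodule.span_induction ?_ (map_zero _) (fun x y _ _ hx hy => by rw [map_add, hx, hy, add_zero])
      (fun c x _ hx => by rw [smul_eq_mul, map_mul, hx, mul_zero]) hf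
    rintro _ ⟨i, rfl⟩
    refine TrivSqZeroExt.ext ?_ ?_
    · simpa [ψ₀] using hFa _ (Ideal.subset_span ⟨i, rfl⟩)
    · simp only [ψ₀, RingHom.coe_mk, MonoidHom.coe_mk, OneHom.coe_mk, TrivSqZeroExt.snd_add, TrivSqZeroExt.snd_inl,
        TrivSqZeroExt.snd_inr, zero_add, TrivSqZeroExt.snd_zero]
      exact (Submodule.Quotient.mk_eq_zero W).2 (hW ▸ Submodule.subset_span (R := k) (Set.mem_range_self (f := fun i => lin a (F i)) i))
  let ψ₁ := Ideal.Quotient.lift I ψ₀ hψI
  have hψ₁ : ∀ f, ψ₁ (Ideal.Quotient.mk I f) = ψ₀ f := fun f => Ideal.Quotient.lift_mk I ψ₀ hψI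
  have hfst : ∀ f, (ψ₀ f).fst = eval a f := fun f => by simp [ψ₀]
  have hsnd : ∀ f, (ψ₀ f).snd = Submodule.Quotient.mk (lin a f) := fun f => by simp [ψ₀]
  have hmem : ∀ f, Ideal.Quotient.mk I f ∈ 𝔪 ↔ eval a f = 0 := fun f => by
    rw [← Ideal.mem_comap, h𝔪, RingHom.mem_ker]
  have hunit : ∀ s : 𝔪.primeCompl, IsUnit (ψ₁ s) := by
    rintro ⟨x, hx⟩
    obtain ⟨f, rfl⟩ := Ideal.Quotient.mk_surjective x
    rw [hψ₁, TrivSqZeroExt.isUnit_iff_isUnit_fst, hfst, isUnit_iff_ne_zero]
    exact fun h => hx ((hmem f).2 h)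
  let ψ : Localization.AtPrime 𝔪 →+* TrivSqZeroExt k V := IsLocalization.lift hunit
  have hψ' : ∀ x, ψ (algebraMap _ _ x) = ψ₁ x := fun x => IsLocalization.lift_eq hunit x
  have hψ : ∀ f, ψ (algebraMap _ _ (Ideal.Quotient.mk I f)) = ψ₀ f := fun f => (hψ' _).trans (hψ₁ f)
  have hm : ∀ x : (Localization.AtPrime 𝔪), x ∈ maximalIdeal (Localization.AtPrime 𝔪) ↔ (ψ x).fst = 0 := by
    intro x
    obtain ⟨⟨y, s⟩, rfl⟩ := IsLocalization.mk'_surjective 𝔪.primeCompl x
    obtain ⟨f, rfl⟩ := Ideal.Quotient.mk_surjective y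
    rw [IsLocalization.AtPrime.mk'_mem_maximal_iff (Localization.AtPrime 𝔪) 𝔪, hmem]
    have h2 : ψ (IsLocalization.mk' (Localization.AtPrime 𝔪) (Ideal.Quotient.mk I f) s) * ψ₁ s = ψ₀ f := by
      rw [← hψ' s, ← map_mul, IsLocalization.mk'_spec, hψ]
    have h3 := congrArg TrivSqZeroExt.fst h2
    rw [TrivSqZeroExt.fst_mul, hfst] at h3
    have h4 : (ψ₁ s).fst ≠ 0 := by
      obtain ⟨g, hg⟩ := Ideal.Quotient.mk_surjective (s : MvPolynomial (Fin n) k ⧸ I)
      rw [← hg, hψ₁, hfst]
      exact fun h => s.2 (hg ▸ (hmem g).2 h)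
    constructor
    · intro h
      rw [h] at h3
      exact (mul_eq_zero.1 h3).resolve_right h4
    · intro h
      rw [← h3, h, zero_mul]
  have hθker : ∀ x : maximalIdeal (Localization.AtPrime 𝔪), (ψ x).snd = 0 ↔ (x : (Localization.AtPrime 𝔪)) ∈ maximalIdeal (Localization.AtPrime 𝔪) ^ 2 := by
    intro x
    constructor
    · intro hx
      obtain ⟨⟨y, s⟩, hy⟩ := IsLocalization.surj 𝔪.primeCompl (x : (Localization.AtPrime 𝔪))
      obtain ⟨f, rfl⟩ := Ideal.Quotient.mk_surjective y
      simp only at hy
      have h1 : ψ₀ f = ψ x * ψ₁ s := by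
        rw [← hψ, ← hy, map_mul, hψ']
      have hf0 : eval a f = 0 := by
        rw [← hfst, h1, TrivSqZeroExt.fst_mul, (hm x).1 x.2, zero_mul]
      have hfW : lin a f ∈ W := by
        rw [← Submodule.Quotient.mk_eq_zero, ← hsnd, h1, TrivSqZeroExt.snd_mul, (hm x).1 x.2, zero_smul, zero_add]
        rw [hx, smul_zero]
      obtain ⟨c, hc⟩ := (Submodule.mem_span_range_iff_exists_fun k).1 hfW
      -- correct `f` by elements of `I`
      set g := f - ∑ i, C (c i) * F i with hg
      have hgI : Ideal.Quotient.mk I g = Ideal.Quotient.mk I f := by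
        rw [Ideal.Quotient.eq, hg, sub_sub_cancel_left, neg_mem_iff]
        exact Ideal.sum_mem _ fun i _ => Ideal.mul_mem_left _ _ (Ideal.subset_span ⟨i, rfl⟩)
      have hg0 : eval a g = 0 := by
        rw [hg, map_sub, hf0, map_sum, zero_sub, neg_eq_zero]
        exact Finset.sum_eq_zero fun i _ => by rw [map_mul, hFa _ (Ideal.subset_span ⟨i, rfl⟩), mul_zero]
      have hgl : lin a g = 0 := by
        funext j
        have := congrFun hc j
        simp only [Finset.sum_apply, Pi.smul_apply, smul_eq_mul, lin] at this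
        simp only [hg, lin, map_sub, map_sum, pderiv_C_mul, smul_eval, Pi.zero_apply]
        rw [sub_eq_zero, ← this]
        simp
      have hg2 : g ∈ RingHom.ker (eval a) ^ 2 := by
        have := taylor_mem a g
        simpa [hg0, hgl] using this
      have hle : (RingHom.ker (eval a)).map ((algebraMap _ (Localization.AtPrime 𝔪)).comp (Ideal.Quotient.mk I)) ≤ maximalIdeal (Localization.AtPrime 𝔪) :=
        Ideal.map_le_iff_le_comap.2 fun f hf => by
          rw [Ideal.mem_comap, hm, RingHom.comp_apply, hψ, hfst]; exact hf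
      have := Ideal.mem_map_of_mem ((algebraMap _ (Localization.AtPrime 𝔪)).comp (Ideal.Quotient.mk I)) hg2
      rw [Ideal.map_pow, RingHom.comp_apply, hgI, ← hy] at this
      exact (Ideal.mul_unit_mem_iff_mem _ (IsLocalization.map_units (Localization.AtPrime 𝔪) s)).1
        ((Ideal.pow_right_mono hle 2) this)
    · intro hx
      rw [pow_two] at hx
      refine Submodule.mul_induction_on hx (fun u hu v hv => ?_) (fun u v hu hv => ?_)
      · rw [map_mul, TrivSqZeroExt.snd_mul, (hm u).1 hu, (hm v).1 hv]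
        simp
      · rw [map_add, TrivSqZeroExt.snd_add, hu, hv, add_zero]
  have hθsurj : ∀ v : V, ∃ x ∈ maximalIdeal (Localization.AtPrime 𝔪), (ψ x).snd = v := by
    intro v
    obtain ⟨w, rfl⟩ := Submodule.Quotient.mk_surjective W v
    let f : MvPolynomial (Fin n) k := ∑ j, C (w j) * (X j - C (a j))
    have hf : lin a f = w := by
      funext j
      simp only [f, lin, map_sum, pderiv_C_mul, smul_eval, map_sub, pderiv_C, sub_zero]
      rw [Finset.sum_eq_single j]
      · simp
      · intro i _ hij; simp [pderiv_X_of_ne hij]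
      · simp
    refine ⟨algebraMap _ (Localization.AtPrime 𝔪) (Ideal.Quotient.mk I f), (hm _).2 (by rw [hψ, hfst]; simp [f]), ?_⟩
    rw [hψ, hsnd, hf]
  exact finrank_cotangentSpace_of_firstOrder ψ hm hθker hθsurj
    (fun c => ⟨algebraMap _ _ (Ideal.Quotient.mk I (C c)), by rw [hψ, hfst, eval_C]⟩)

end Groth.Agent.JacPoint
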